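import Groth.Agent.SiteBase.KFlat.Resolution

/-! # A map out of a sequential colimit which is eventually a quasi-isomorphism in each degree -/

universe w v u

open CategoryTheory Limits HomologicalComplex

attribute [local instance] IsFiltered.isConnected

namespace Groth.Agent.CoverSys

variable {A : Type u} [Category.{v} A] [Abelian A] [HasColimitsOfShape ℕ A] [HasExactColimitsOfShape ℕ A]
  [HasColimitsOfShape (Discrete ℕ) A]

theorem quasiIso_of_eventually {D : ℕ ⥤ CochainComplex A ℤ} {L : CochainComplex A ℤ} (c : colimit D ⟶ L)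
    (h : ∀ q : ℤ, ∃ n₀ : ℕ, ∀ m, n₀ ≤ m → QuasiIsoAt (colimit.ι D m ≫ c) q) : QuasiIso c := by
  refine ⟨fun n => ?_⟩
  obtain ⟨n₀, hn₀⟩ := h n
  have hiso : ∀ m, n₀ ≤ m → IsIso (homologyMap (colimit.ι D m ≫ c) n) := fun m hm =>
    (quasiIsoAt_iff_isIso_homologyMap _ _).1 (hn₀ m hm)
  rw [quasiIsoAt_iff_isIso_homologyMap]
  have he : Epi (homologyMap c n) := by
    haveI := hiso n₀ le_rfl
    haveI : Epi (homologyMap (colimit.ι D n₀) n ≫ homologyMap c n) := by
      rw [← homologyMap_comp]; infer_instance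
    exact epi_of_epi (homologyMap (colimit.ι D n₀) n) _
  have hm : Mono (homologyMap c n) := by
    rw [mono_homologyMap_iff_up_to_refinements c (n - 1) n (n + 1) (by simp) (by simp)]
    intro X x hx y hxy
    -- cycles of the colimit are locally cycles of some stage
    let α : D ⋙ HomologicalComplex.eval _ _ n ⟶ D ⋙ HomologicalComplex.eval _ _ (n + 1) :=
      { app := fun j => (D.obj j).d n (n + 1)
        naturality := fun i j f => (D.map f).comm _ _ }
    let hcn := isColimitOfPreserves (HomologicalComplex.eval _ _ n) (colimit.isColimit D)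
    let hcn' := isColimitOfPreserves (HomologicalComplex.eval _ _ (n + 1)) (colimit.isColimit D)
    let ζ : colimit (kernel α) ⟶ (colimit D).X n :=
      IsColimit.map (colimit.isColimit _)
        ((HomologicalComplex.eval _ _ n).mapCocone (colimit.cocone D)) (kernel.ι α)
    have hζ : ∀ j, colimit.ι (kernel α) j ≫ ζ = (kernel.ι α).app j ≫ (colimit.ι D j).f n := fun j =>
      IsColimit.ι_map _ _ _ _
    have hex := colim.exact_mapShortComplex
      ((ShortComplex.mk _ _ (kernel.condition α)).exact_of_f_is_kernel (kernelIsKernel α))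
      (colimit.isColimit _) hcn hcn' ζ ((colimit D).d n (n + 1)) hζ
      (fun j => (colimit.ι D j).comm _ _)
    obtain ⟨X₁, π₁, hπ₁, x₁, hx₁⟩ := hex.exact_up_to_refinements x hx
    replace hx₁ : π₁ ≫ x = x₁ ≫ ζ := hx₁
    obtain ⟨Z, z, y', hze, hzy⟩ := SiteBase.KFlat.exists_refinements (colimit.isColimit (kernel α)) x₁
    replace hzy : ∀ j, z j ≫ π₁ ≫ x = y' j ≫ (kernel.ι α).app j ≫ (colimit.ι D j).f n := fun j => by
      rw [hx₁]
      erw [reassoc_of% hzy j]
      exact congrArg (y' j ≫ ·) (hζ j)
    -- they are boundaries at a later stage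
    have key : ∀ j, ∃ (X' : A) (π : X' ⟶ Z j) (_ : Epi π) (w : X' ⟶ (colimit D).X (n - 1)),
        π ≫ z j ≫ π₁ ≫ x = w ≫ (colimit D).d (n - 1) n := by
      intro j
      let m := max j n₀
      let u : Z j ⟶ (D.obj j).X n := y' j ≫ (kernel.ι α).app j
      have hk : u ≫ (D.obj j).d n (n + 1) = 0 :=
        (Category.assoc _ _ _).trans
          ((congrArg (y' j ≫ ·) (congr_app (kernel.condition α) j)).trans comp_zero)
      have hu : z j ≫ π₁ ≫ x = u ≫ (colimit.ι D j).f n := (hzy j).trans (Category.assoc _ _ _).symm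
      have hD : (colimit.ι D j).f n =
          (D.map (homOfLE (le_max_left j n₀))).f n ≫ (colimit.ι D m).f n := by
        rw [← HomologicalComplex.comp_f, colimit.w]
      let x' : Z j ⟶ (D.obj m).X n := u ≫ (D.map (homOfLE (le_max_left j n₀))).f n
      have hx' : x' ≫ (D.obj m).d n (n + 1) = 0 := by
        show (u ≫ _) ≫ _ = 0
        rw [Category.assoc, Hom.comm, reassoc_of% hk, zero_comp]
      have hxm : x' ≫ (colimit.ι D m).f n = z j ≫ π₁ ≫ x := by
        rw [hu, hD, Category.assoc]
      have hmono : Mono (homologyMap (colimit.ι D m ≫ c) n) :=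
        haveI := hiso m (le_max_right j n₀)
        inferInstance
      rw [mono_homologyMap_iff_up_to_refinements _ (n - 1) n (n + 1) (by simp) (by simp)] at hmono
      obtain ⟨X', π, hπ, w, hw⟩ := hmono x' hx' (z j ≫ π₁ ≫ y) (by
        rw [HomologicalComplex.comp_f, reassoc_of% hxm, hxy, Category.assoc, Category.assoc])
      refine ⟨X', π, hπ, w ≫ (colimit.ι D m).f (n - 1), ?_⟩
      rw [← hxm, reassoc_of% hw, Category.assoc, Hom.comm]
    choose X' π hπ w hw using key
    refine ⟨∐ X', Sigma.desc (fun j => π j ≫ z j) ≫ π₁, ?_, Sigma.desc w, ?_⟩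
    · have : Epi (Sigma.desc fun j => π j ≫ z j) := ⟨fun u v h => by
        rw [← cancel_epi (Sigma.desc z)]
        refine Sigma.hom_ext _ _ fun j => ?_
        haveI := hπ j
        rw [← cancel_epi (π j)]
        simpa using congrArg (Sigma.ι X' j ≫ ·) h⟩
      exact epi_comp _ _
    · refine Sigma.hom_ext _ _ fun j => ?_
      simpa using hw j
  exact isIso_of_mono_of_epi _

end Groth.Agent.CoverSys
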