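import Groth.Agent.CoverSys.System
import Groth.Agent.SiteBase.ModFlat
import Groth.Agent.SiteBase.ModGrothendieck

/-! # Direct sums of the modules `j_{U!} O_U` as a covering class -/

universe u

open CategoryTheory Limits Opposite ZeroObject

namespace Groth.Agent.CoverSys

open Groth.Agent.SiteBase

variable {C : Type u} [SmallCategory C] {J : GrothendieckTopology C} (O : Sheaf J CommRingCat.{u})

/-- direct sums of `j_{U!} O_U` -/
def IsFreeSum : ObjectProperty (ModSite.Mod O) := fun M =>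
  ∃ (ι : Type u) (U : ι → C), Nonempty (M ≅ ∐ fun j => ModSite.freeOn O (U j))

instance : (IsFreeSum O).IsClosedUnderIsomorphisms :=
  ⟨fun e ⟨ι, U, ⟨f⟩⟩ => ⟨ι, U, ⟨e.symm ≪≫ f⟩⟩⟩

theorem isFreeSum_of_isZero (Z : ModSite.Mod O) (hZ : IsZero Z) : IsFreeSum O Z := by
  refine ⟨PEmpty, fun x => x.elim, ⟨hZ.iso ?_⟩⟩
  rw [IsZero.iff_id_eq_zero]
  exact Sigma.hom_ext _ _ fun x => x.elim

/-- binary sums of coproducts -/
noncomputable def sumCoprodIso {A : Type*} [Category* A] [Preadditive A] [HasBinaryBiproducts A]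
    {ι κ : Type u} (f : ι ⊕ κ → A) [HasCoproduct f] [HasCoproduct fun j => f (Sum.inl j)]
    [HasCoproduct fun j => f (Sum.inr j)] :
    (∐ fun j => f (Sum.inl j)) ⊞ (∐ fun j => f (Sum.inr j)) ≅ ∐ f where
  hom := biprod.desc (Sigma.desc fun j => Sigma.ι f (Sum.inl j)) (Sigma.desc fun j => Sigma.ι f (Sum.inr j))
  inv := Sigma.desc fun s => Sum.casesOn (motive := fun s => f s ⟶ _) s
    (fun j => Sigma.ι (fun j => f (Sum.inl j)) j ≫ biprod.inl)
    (fun j => Sigma.ι (fun j => f (Sum.inr j)) j ≫ biprod.inr)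
  hom_inv_id := by
    apply biprod.hom_ext'
    · rw [biprod.inl_desc_assoc, Category.comp_id]
      exact Sigma.hom_ext _ _ fun j => by simp
    · rw [biprod.inr_desc_assoc, Category.comp_id]
      exact Sigma.hom_ext _ _ fun j => by simp
  inv_hom_id := Sigma.hom_ext _ _ fun s => by cases s <;> simp

theorem isFreeSum_biprod (X Y : ModSite.Mod O) (hX : IsFreeSum O X) (hY : IsFreeSum O Y) :
    IsFreeSum O (X ⊞ Y) := by
  obtain ⟨ι, U, ⟨e⟩⟩ := hX
  obtain ⟨κ, V, ⟨f⟩⟩ := hY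
  exact ⟨ι ⊕ κ, Sum.elim U V,
    ⟨biprod.mapIso e f ≪≫ sumCoprodIso fun s => ModSite.freeOn O (Sum.elim U V s)⟩⟩

/-- the canonical covers by direct sums of `j_{U!} O_U` -/
noncomputable def freeCovers : Covers (IsFreeSum O) where
  obj M := ∐ fun i : Σ U : C, M.val.obj (op U) => ModSite.freeOn O i.1
  π M := Sigma.desc fun i => freeOnHom M i.1 i.2
  prop M := ⟨_, fun i : Σ U : C, M.val.obj (op U) => i.1, ⟨Iso.refl _⟩⟩
  epi M := ⟨fun g h e => by
    apply SheafOfModules.hom_ext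
    refine PresheafOfModules.hom_ext fun X => ModuleCat.hom_ext (LinearMap.ext fun s => ?_)
    refine eq_of_freeOnHom g h X.unop s ?_
    have he := congrArg (Sigma.ι (fun i : Σ U : C, M.val.obj (op U) => ModSite.freeOn O i.1) ⟨X.unop, s⟩ ≫ ·) e
    simpa using he⟩

end Groth.Agent.CoverSys
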