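import Mathlib.Algebra.Homology.Refinements
import Mathlib.Algebra.Homology.QuasiIso
import Mathlib.Algebra.Homology.ShortComplex.Abelian
import Mathlib.CategoryTheory.Abelian.Exact

/-!
# Relative resolutions by a covering class

A map of chain complexes `a : K ⟶ L` factors as a degreewise split monomorphism with cokernels in a class
covering every object followed by a degreewise epimorphic quasi-isomorphism.
-/

universe v u

open CategoryTheory Limits ZeroObject

namespace Groth.Agent.CoverSys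

variable {A : Type u} [Category.{v} A] [Abelian A]

/-- a choice of covers -/
structure Covers (P : ObjectProperty A) where
  /-- the cover -/
  obj : A → A
  /-- its projection -/
  π : ∀ M, obj M ⟶ M
  prop : ∀ M, P (obj M)
  epi : ∀ M, Epi (π M)

attribute [instance] Covers.epi

variable {P : ObjectProperty A} {K L : ChainComplex A ℕ}

/-- the data needed to construct degree `n` -/
structure Base (a : K ⟶ L) (n : ℕ) where
  /-- cycles below -/
  Z : A
  /-- the target below -/
  T : A
  /-- their image -/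
  za : Z ⟶ T
  /-- differential of the target -/
  δ : L.X n ⟶ T
  /-- differential of the source -/
  zd : K.X n ⟶ Z
  zd_za : zd ≫ za = a.f n ≫ δ
  d_zd : K.d (n + 1) n ≫ zd = 0
  d_δ : L.d (n + 1) n ≫ δ = 0

variable {a : K ⟶ L} (c : Covers P)

namespace Base

variable {n : ℕ} (b : Base a n)

/-- the new cells -/
noncomputable abbrev Q : A := c.obj (pullback b.za b.δ)

/-- the new term -/
noncomputable abbrev X : A := K.X n ⊞ b.Q c

/-- its differential -/
noncomputable abbrev d : b.X c ⟶ b.Z := biprod.desc b.zd (c.π _ ≫ pullback.fst b.za b.δ)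

/-- its map to the target -/
noncomputable abbrev f : b.X c ⟶ L.X n := biprod.desc (a.f n) (c.π _ ≫ pullback.snd b.za b.δ)

lemma d_za : b.d c ≫ b.za = b.f c ≫ b.δ := by
  apply biprod.hom_ext'
  · simp [b.zd_za]
  · simp [pullback.condition]

/-- the data for the next degree -/
noncomputable def next : Base a (n + 1) where
  Z := kernel (b.d c)
  T := L.X n
  za := kernel.ι (b.d c) ≫ b.f c
  δ := L.d (n + 1) n
  zd := kernel.lift (b.d c) (K.d (n + 1) n ≫ biprod.inl) (by simp [b.d_zd])
  zd_za := by simp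
  d_zd := by
    rw [← cancel_mono (kernel.ι (b.d c))]
    simp
  d_δ := L.d_comp_d _ _ _

instance epi_lift : Epi (pullback.lift (b.d c) (b.f c) (b.d_za c)) := by
  have h : biprod.inr ≫ pullback.lift (b.d c) (b.f c) (b.d_za c) = c.π (pullback b.za b.δ) := by
    apply pullback.hom_ext
    · exact (Category.assoc _ _ _).trans ((congrArg (biprod.inr ≫ ·) (pullback.lift_fst _ _ _)).trans (biprod.inr_desc _ _))
    · exact (Category.assoc _ _ _).trans ((congrArg (biprod.inr ≫ ·) (pullback.lift_snd _ _ _)).trans (biprod.inr_desc _ _))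
  haveI : Epi (biprod.inr ≫ pullback.lift (b.d c) (b.f c) (b.d_za c)) := by rw [h]; infer_instance
  exact epi_of_epi (biprod.inr) _

/-- refinements of pairs to the new term -/
lemma exists_lift {W : A} (z : W ⟶ b.Z) (y : W ⟶ L.X n) (w : z ≫ b.za = y ≫ b.δ) :
    ∃ (W' : A) (π : W' ⟶ W) (_ : Epi π) (x : W' ⟶ b.X c), x ≫ b.d c = π ≫ z ∧ x ≫ b.f c = π ≫ y := by
  obtain ⟨W', π, hπ, x, hx⟩ := surjective_up_to_refinements_of_epi
    (pullback.lift (b.d c) (b.f c) (b.d_za c)) (pullback.lift z y w)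
  refine ⟨W', π, hπ, x, ?_, ?_⟩
  · have h := congrArg (· ≫ pullback.fst b.za b.δ) hx
    simp only [Category.assoc] at h
    rw [pullback.lift_fst, pullback.lift_fst] at h
    exact h.symm
  · have h := congrArg (· ≫ pullback.snd b.za b.δ) hx
    simp only [Category.assoc] at h
    rw [pullback.lift_snd, pullback.lift_snd] at h
    exact h.symm

end Base

variable (a)

/-- degree zero -/
noncomputable def base₀ : Base a 0 where
  Z := 0
  T := 0
  za := 0
  δ := 0
  zd := 0
  zd_za := by simp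
  d_zd := by simp
  d_δ := by simp

/-- all degrees -/
noncomputable def bs : ∀ n, Base a n
  | 0 => base₀ a
  | n + 1 => (bs n).next c

lemma bs_succ (n : ℕ) : bs a c (n + 1) = (bs a c n).next c := rfl

/-- the differential -/
noncomputable def dN (n : ℕ) : (bs a c (n + 1)).X c ⟶ (bs a c n).X c :=
  ((bs a c (n + 1)).d c : _ ⟶ kernel ((bs a c n).d c)) ≫ kernel.ι ((bs a c n).d c)

/-- the resolution -/
noncomputable def N : ChainComplex A ℕ :=
  ChainComplex.of (fun n => (bs a c n).X c) (dN a c) fun n => by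
    have h : kernel.ι ((bs a c (n + 1)).d c) ≫ (bs a c (n + 1)).d c = 0 := kernel.condition _
    show ((_ : _ ⟶ kernel _) ≫ kernel.ι ((bs a c (n + 1)).d c)) ≫
      (((bs a c (n + 1)).d c : _ ⟶ kernel ((bs a c n).d c)) ≫ kernel.ι ((bs a c n).d c)) = 0
    rw [Category.assoc]
    erw [reassoc_of% h]
    simp

lemma N_d (n : ℕ) : (N a c).d (n + 1) n = dN a c n :=
  ChainComplex.of_d (fun n => (bs a c n).X c) (dN a c) n

/-- the inclusion of the source -/
noncomputable def incl : K ⟶ N a c where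
  f n := (biprod.inl : K.X n ⟶ (bs a c n).X c)
  comm' i j h := by
    obtain rfl : j + 1 = i := h
    rw [N_d]
    show biprod.inl ≫ (((bs a c (j + 1)).d c : _ ⟶ kernel _) ≫ kernel.ι ((bs a c j).d c)) = _
    rw [← Category.assoc]
    erw [biprod.inl_desc]
    exact kernel.lift_ι _ _ _

/-- the augmentation -/
noncomputable def proj : N a c ⟶ L where
  f n := ((bs a c n).f c : (bs a c n).X c ⟶ L.X n)
  comm' i j h := by
    obtain rfl : j + 1 = i := h
    rw [N_d]
    show _ = (((bs a c (j + 1)).d c : _ ⟶ kernel _) ≫ kernel.ι ((bs a c j).d c)) ≫ (bs a c j).f c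
    rw [Category.assoc]
    exact ((bs a c (j + 1)).d_za c).symm

lemma incl_proj : incl a c ≫ proj a c = a := by
  ext n
  exact biprod.inl_desc _ _

/-- boundaries of the target come from cycles -/
lemma exists_cycle : ∀ (n : ℕ) {W : A} (y : W ⟶ L.X n),
    ∃ (W' : A) (π : W' ⟶ W) (_ : Epi π) (z : W' ⟶ (bs a c n).Z),
      z ≫ (bs a c n).za = π ≫ y ≫ (bs a c n).δ
  | 0, W, y => ⟨W, 𝟙 W, inferInstance, 0, by simp [bs, base₀]⟩
  | n + 1, W, y => by
    obtain ⟨W', π, hπ, x, hx₁, hx₂⟩ := (bs a c n).exists_lift c (0 : W ⟶ _) (y ≫ L.d (n + 1) n)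
      (by rw [zero_comp, Category.assoc, (bs a c n).d_δ, comp_zero])
    refine ⟨W', π, hπ, kernel.lift _ x (by rw [hx₁, comp_zero]), ?_⟩
    show kernel.lift _ x _ ≫ (kernel.ι ((bs a c n).d c) ≫ (bs a c n).f c) = π ≫ y ≫ L.d (n + 1) n
    rw [kernel.lift_ι_assoc, hx₂]

lemma epi_proj_f (n : ℕ) : Epi ((proj a c).f n) := by
  rw [epi_iff_surjective_up_to_refinements]
  intro W y
  obtain ⟨W', π, hπ, z, hz⟩ := exists_cycle a c n y
  obtain ⟨W'', π', hπ', x, -, hx⟩ := (bs a c n).exists_lift c z (π ≫ y) (by rw [hz, Category.assoc])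
  exact ⟨W'', π' ≫ π, inferInstance, x, by rw [Category.assoc]; exact hx.symm⟩

lemma exists_boundary (n : ℕ) {W : A} (x : W ⟶ (bs a c n).X c) (hx : x ≫ (bs a c n).d c = 0)
    (y : W ⟶ L.X (n + 1)) (hxy : x ≫ (bs a c n).f c = y ≫ L.d (n + 1) n) :
    ∃ (W' : A) (π : W' ⟶ W) (_ : Epi π) (w : W' ⟶ (N a c).X (n + 1)),
      π ≫ (x : W ⟶ (N a c).X n) = w ≫ (N a c).d (n + 1) n := by
  obtain ⟨W', π, hπ, w, hw, -⟩ := (bs a c (n + 1)).exists_lift c
    (kernel.lift ((bs a c n).d c) x hx : W ⟶ kernel _) y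
    (by
      show kernel.lift _ x hx ≫ (kernel.ι ((bs a c n).d c) ≫ (bs a c n).f c) = y ≫ L.d (n + 1) n
      rw [kernel.lift_ι_assoc]
      exact hxy)
  refine ⟨W', π, hπ, w, ?_⟩
  rw [N_d]
  show π ≫ x = w ≫ (((bs a c (n + 1)).d c : _ ⟶ kernel _) ≫ kernel.ι ((bs a c n).d c))
  rw [← Category.assoc w]
  erw [hw]
  rw [Category.assoc]
  erw [kernel.lift_ι]

lemma cycle_d : ∀ (n : ℕ) {W : A} (x : W ⟶ (bs a c n).X c),
    (∀ m, m + 1 = n → (x : W ⟶ (N a c).X n) ≫ (N a c).d n m = 0) → x ≫ (bs a c n).d c = 0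
  | 0, W, x, _ => (isZero_zero A).eq_of_tgt _ _
  | n + 1, W, x, h => by
    have := h n rfl
    rw [N_d] at this
    exact (cancel_mono (kernel.ι ((bs a c n).d c))).1
      (((Category.assoc _ _ _).trans this).trans zero_comp.symm)

lemma quasiIso_proj : QuasiIso (proj a c) := ⟨fun n => by
  rw [quasiIsoAt_iff_isIso_homologyMap]
  obtain ⟨k, hk⟩ : ∃ k, (ComplexShape.down ℕ).next n = k := ⟨_, rfl⟩
  haveI : Mono (HomologicalComplex.homologyMap (proj a c) n) := by
    rw [HomologicalComplex.mono_homologyMap_iff_up_to_refinements (proj a c) (n + 1) n k (by simp) hk]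
    intro W x hx y hxy
    refine exists_boundary a c n x (cycle_d a c n x fun m hm => ?_) y hxy
    obtain rfl : k = m := hk ▸ ComplexShape.next_eq' _ (show (ComplexShape.down ℕ).Rel n m from hm)
    exact hx
  haveI : Epi (HomologicalComplex.homologyMap (proj a c) n) := by
    rw [HomologicalComplex.epi_homologyMap_iff_up_to_refinements (proj a c) (n + 1) n k (by simp) hk]
    intro W y hy
    have hy' : y ≫ (bs a c n).δ = 0 := by
      cases n with
      | zero => exact (isZero_zero A).eq_of_tgt _ _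
      | succ m =>
        obtain rfl : k = m := hk ▸ ComplexShape.next_eq' _ (show (ComplexShape.down ℕ).Rel (m + 1) m from rfl)
        exact hy
    obtain ⟨W', π, hπ, x, hx₁, hx₂⟩ := (bs a c n).exists_lift c 0 y (by rw [hy', zero_comp])
    refine ⟨W', π, hπ, x, ?_, 0, ?_⟩
    · cases n with
      | zero =>
        rw [(N a c).shape 0 k (by simp)]
        exact comp_zero
      | succ m =>
        obtain rfl : k = m := hk ▸ ComplexShape.next_eq' _ (show (ComplexShape.down ℕ).Rel (m + 1) m from rfl)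
        rw [N_d]
        show x ≫ (((bs a c (k + 1)).d c : _ ⟶ kernel _) ≫ kernel.ι ((bs a c k).d c)) = 0
        rw [← Category.assoc]
        erw [hx₁]
        simp
    · rw [zero_comp, add_zero]; exact hx₂.symm
  exact isIso_of_mono_of_epi _⟩

/-- Relative resolution of a map of chain complexes. -/
theorem exists_relative_resolution (c : Covers P) :
    ∃ (N : ChainComplex A ℕ) (i : K ⟶ N) (π : N ⟶ L), i ≫ π = a ∧ QuasiIso π ∧ (∀ n, Epi (π.f n)) ∧
      ∀ n, ∃ (Q : A) (_ : P Q) (e : N.X n ≅ K.X n ⊞ Q), i.f n ≫ e.hom = biprod.inl :=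
  ⟨N a c, incl a c, proj a c, incl_proj a c, quasiIso_proj a c, epi_proj_f a c,
    fun n => ⟨(bs a c n).Q c, c.prop _, Iso.refl _, Category.comp_id _⟩⟩

end Groth.Agent.CoverSys
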