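import Groth.Agent.CoverSys.Relative
import Groth.Agent.CoverSys.Colimit
import Mathlib.Algebra.Homology.Embedding.CochainComplex
import Mathlib.Algebra.Homology.Embedding.ExtendHomology
import Mathlib.Algebra.Homology.Embedding.StupidTrunc
import Mathlib.CategoryTheory.Functor.OfSequence

/-!
# Systems of resolutions of truncations by a covering class
-/

universe v u

open CategoryTheory Limits ZeroObject HomologicalComplex ComplexShape

namespace Groth.Agent.CoverSys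

variable {A : Type u} [Category.{v} A] [Abelian A] {P : ObjectProperty A}

/-- degreewise split with cokernel in `P` -/
def SplitP (P : ObjectProperty A) {ι : Type*} {c : ComplexShape ι} {K N : HomologicalComplex A c}
    (i : K ⟶ N) : Prop :=
  ∀ q, ∃ (Q : A) (_ : P Q) (e : N.X q ≅ K.X q ⊞ Q), i.f q ≫ e.hom = biprod.inl

section

variable {ι ι' : Type*} {c : ComplexShape ι} {c' : ComplexShape ι'} (e : c.Embedding c') [e.IsRelIff]

/-- a strictly supported complex is its stupid truncation -/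
noncomputable def stupidXIso (X : HomologicalComplex A c') [X.IsStrictlySupported e] (q : ι') :
    (X.stupidTrunc e).X q ≅ X.X q :=
  open Classical in
  if h : ∃ k, e.f k = q then X.stupidTruncXIso e h.choose_spec
  else (X.isZero_stupidTrunc_X e q fun k hk => h ⟨k, hk⟩).iso
    (X.isZero_X_of_isStrictlySupported e q fun k hk => h ⟨k, hk⟩)

lemma stupidXIso_eq (X : HomologicalComplex A c') [X.IsStrictlySupported e] {k : ι} {q : ι'}
    (hk : e.f k = q) : stupidXIso e X q = X.stupidTruncXIso e hk := by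
  have h : ∃ k, e.f k = q := ⟨k, hk⟩
  obtain rfl : h.choose = k := e.injective_f (h.choose_spec.trans hk.symm)
  exact dif_pos h

lemma stupidTruncXIso_d (X : HomologicalComplex A c') {k l : ι} {p q : ι'} (hk : e.f k = p)
    (hl : e.f l = q) : (X.stupidTruncXIso e hk).hom ≫ X.d p q =
      (X.stupidTrunc e).d p q ≫ (X.stupidTruncXIso e hl).hom := by
  subst hk hl
  simp [stupidTrunc, stupidTruncXIso, extend_d_eq _ e rfl rfl]
  exact (Category.id_comp _).trans (Category.comp_id _).symm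

/-- a strictly supported complex is its stupid truncation -/
noncomputable def stupidIso (X : HomologicalComplex A c') [X.IsStrictlySupported e] :
    X.stupidTrunc e ≅ X :=
  Hom.isoOfComponents (stupidXIso e X) fun p q hpq => by
    by_cases hp : ∃ k, e.f k = p
    · by_cases hq : ∃ k, e.f k = q
      · obtain ⟨k, hk⟩ := hp
        obtain ⟨l, hl⟩ := hq
        rw [stupidXIso_eq e X hk, stupidXIso_eq e X hl, stupidTruncXIso_d e X hk hl]
      · exact (X.isZero_X_of_isStrictlySupported e q fun k hk => hq ⟨k, hk⟩).eq_of_tgt _ _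
    · exact (X.isZero_stupidTrunc_X e p fun k hk => hp ⟨k, hk⟩).eq_of_src _ _

lemma stupidIso_naturality {X Y : HomologicalComplex A c'} [X.IsStrictlySupported e] [Y.IsStrictlySupported e]
    (φ : X ⟶ Y) : stupidTruncMap φ e ≫ (stupidIso e Y).hom = (stupidIso e X).hom ≫ φ := by
  ext q
  by_cases hq : ∃ k, e.f k = q
  · obtain ⟨k, hk⟩ := hq
    simp only [comp_f, stupidIso, Hom.isoOfComponents_hom_f, stupidXIso_eq e _ hk]
    exact stupidTruncMap_stupidTruncXIso_hom φ e hk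
  · exact (X.isZero_stupidTrunc_X e q fun k hk => hq ⟨k, hk⟩).eq_of_src _ _

end

/-- transport of a split inclusion along isomorphisms -/
lemma split_conj {K₀ K₁ K₂ N₁ N₂ Q : A} (s : K₁ ≅ K₀) (α : K₁ ≅ K₂) (β : N₁ ≅ N₂) (d : N₂ ≅ K₂ ⊞ Q)
    {i : K₂ ⟶ N₂} (hd : i ≫ d.hom = biprod.inl) {g : K₀ ⟶ N₁} (hg : g = s.inv ≫ α.hom ≫ i ≫ β.inv) :
    g ≫ (β ≪≫ d ≪≫ biprod.mapIso (α.symm ≪≫ s) (Iso.refl Q)).hom = biprod.inl := by
  subst hg
  simp [reassoc_of% hd]

variable (c : Covers P) [P.IsClosedUnderIsomorphisms] (h0 : ∀ Z, IsZero Z → P Z)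

include c h0 in
/-- Relative resolution below a degree. -/
theorem exists_relative_le (K G : CochainComplex A ℤ) (b : ℤ) [K.IsStrictlyLE b] (a : K ⟶ G) :
    ∃ (N : CochainComplex A ℤ) (i : K ⟶ N) (π : N ⟶ G.truncLE b),
      i ≫ π ≫ G.ιTruncLE b = a ∧ N.IsStrictlyLE b ∧ QuasiIso π ∧ (∀ q, Epi (π.f q)) ∧ SplitP P i := by
  haveI : IsIso (K.ιTruncLE b) :=
    inferInstanceAs (IsIso (HomologicalComplex.ιTruncLE K (embeddingUpIntLE b)))
  let e := embeddingUpIntLE b
  let L := G.truncLE b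
  haveI : L.IsStrictlySupported e :=
    inferInstanceAs ((HomologicalComplex.truncLE G e).IsStrictlySupported e)
  let a₁ : K ⟶ L := inv (K.ιTruncLE b) ≫ CochainComplex.truncLEMap a b
  have ha₁ : a₁ ≫ G.ιTruncLE b = a := by simp [a₁]
  obtain ⟨N, i, π, hiπ, hq, he, hs⟩ := exists_relative_resolution (restrictionMap a₁ e) c
  let i₁ : K ⟶ N.extend e := (stupidIso e K).inv ≫ extendMap i e
  let e₁ : N.extend e ⟶ L := (extendMap π e : _ ⟶ L.stupidTrunc e) ≫ (stupidIso e L).hom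
  have hie : i₁ ≫ e₁ = a₁ := by
    have h : extendMap i e ≫ extendMap π e = stupidTruncMap a₁ e := by
      rw [← extendMap_comp, hiπ]; rfl
    simp only [i₁, e₁, Category.assoc]
    erw [reassoc_of% h, stupidIso_naturality, Iso.inv_hom_id_assoc]
  refine ⟨N.extend e, i₁, e₁, by rw [reassoc_of% hie, ha₁],
    inferInstanceAs ((N.extend e).IsStrictlySupported e), ?_, fun q => ?_, fun q => ?_⟩
  · haveI : QuasiIso (extendMap π e : N.extend e ⟶ L.stupidTrunc e) :=
      inferInstanceAs (QuasiIso (extendMap π e))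
    infer_instance
  · by_cases hq : ∃ k, e.f k = q
    · obtain ⟨k, hk⟩ := hq
      haveI := he k
      haveI : Epi ((extendMap π e : N.extend e ⟶ L.stupidTrunc e).f q) := by
        show Epi ((extendMap π e).f q)
        rw [extendMap_f π e hk]
        infer_instance
      show Epi ((extendMap π e : N.extend e ⟶ L.stupidTrunc e).f q ≫ (stupidIso e L).hom.f q)
      haveI : IsIso ((stupidIso e L).hom.f q) := (Hom.isoApp (stupidIso e L) q).isIso_hom
      exact @epi_comp _ _ _ _ _ _ inferInstance _ (inferInstanceAs (Epi (Hom.isoApp (stupidIso e L) q).hom))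
    · exact ⟨fun u v _ => (L.isZero_X_of_isStrictlySupported e q fun k hk => hq ⟨k, hk⟩).eq_of_src u v⟩
  · by_cases hq : ∃ k, e.f k = q
    · obtain ⟨k, hk⟩ := hq
      obtain ⟨Q, hQ, d, hd⟩ := hs k
      refine ⟨Q, hQ, _, split_conj (Hom.isoApp (stupidIso e K) q) (extendXIso (K.restriction e) e hk)
        (extendXIso N e hk) d hd (g := i₁.f q) ?_⟩
      show (stupidIso e K).inv.f q ≫ (extendMap i e).f q = _
      rw [extendMap_f i e hk]
      rfl
    · have hz : IsZero ((N.extend e).X q) := isZero_extend_X _ _ _ fun k hk => hq ⟨k, hk⟩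
      have hzK : IsZero (K.X q) := K.isZero_X_of_isStrictlySupported e q fun k hk => hq ⟨k, hk⟩
      refine ⟨(N.extend e).X q, h0 _ hz, hz.iso ?_, hzK.eq_of_src _ _⟩
      rw [IsZero.iff_id_eq_zero]
      exact biprod.hom_ext' _ _ (hzK.eq_of_src _ _) (hz.eq_of_src _ _)

variable (G : CochainComplex A ℤ)

/-- one term of the system -/
structure Stage (n : ℕ) where
  /-- the complex -/
  K : CochainComplex A ℤ
  /-- its map -/
  π : K ⟶ G.truncLE ((n : ℤ) + 1)
  le : K.IsStrictlyLE ((n : ℤ) + 1)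
  prop : ∀ q, P (K.X q)
  qi : QuasiIso π
  epi : ∀ q, Epi (π.f q)

variable (hP : ∀ X Y, P X → P Y → P (X ⊞ Y))

include c h0 hP in
lemma exists_stage₀ : Nonempty (Stage (P := P) G 0) := by
  have hz : ∀ q, IsZero ((0 : CochainComplex A ℤ).X q) := fun q =>
    (HomologicalComplex.eval A _ q).map_isZero (isZero_zero _)
  haveI : (0 : CochainComplex A ℤ).IsStrictlyLE (((0 : ℕ) : ℤ) + 1) := ⟨fun i _ => hz i⟩
  obtain ⟨N, i, π, -, hle, hq, he, hs⟩ := exists_relative_le c h0 0 G (((0 : ℕ) : ℤ) + 1) 0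
  refine ⟨⟨N, π, hle, fun q => ?_, hq, he⟩⟩
  obtain ⟨Q, hQ, e, -⟩ := hs q
  exact P.prop_of_iso e.symm (hP _ _ (h0 _ (hz q)) hQ)

include c h0 hP in
lemma exists_next {n : ℕ} (S : Stage (P := P) G n) :
    ∃ (T : Stage (P := P) G (n + 1)) (i : S.K ⟶ T.K),
      i ≫ T.π ≫ G.ιTruncLE (((n + 1 : ℕ) : ℤ) + 1) = S.π ≫ G.ιTruncLE ((n : ℤ) + 1) ∧ SplitP P i := by
  haveI := S.le
  haveI : S.K.IsStrictlyLE (((n + 1 : ℕ) : ℤ) + 1) :=
    S.K.isStrictlyLE_of_le ((n : ℤ) + 1) _ (by lia)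
  obtain ⟨N, i, π, hπ, hle, hq, he, hs⟩ :=
    exists_relative_le c h0 S.K G (((n + 1 : ℕ) : ℤ) + 1) (S.π ≫ G.ιTruncLE ((n : ℤ) + 1))
  refine ⟨⟨N, π, hle, fun q => ?_, hq, he⟩, i, hπ, hs⟩
  obtain ⟨Q, hQ, e, -⟩ := hs q
  exact P.prop_of_iso e.symm (hP _ _ (S.prop q) hQ)

variable [HasColimitsOfShape ℕ A] [HasExactColimitsOfShape ℕ A] [HasColimitsOfShape (Discrete ℕ) A]

include c h0 hP in
/-- A system of resolutions of all truncations. -/
theorem exists_system :
    ∃ (Kc : ℕ ⥤ CochainComplex A ℤ) (π : ∀ n : ℕ, Kc.obj n ⟶ G.truncLE ((n : ℤ) + 1)),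
      (∀ n : ℕ, Kc.map (homOfLE (Nat.le_succ n)) ≫ π (n + 1) ≫ G.ιTruncLE (((n + 1 : ℕ) : ℤ) + 1) =
        π n ≫ G.ιTruncLE ((n : ℤ) + 1)) ∧
      (∀ n : ℕ, QuasiIso (π n) ∧ ∀ i : ℤ, Epi ((π n).f i)) ∧
      (∀ n : ℕ, (Kc.obj n).IsStrictlyLE ((n : ℤ) + 1)) ∧
      (∀ n i, P ((Kc.obj n).X i)) ∧
      (∀ n : ℕ, SplitP P (Kc.map (homOfLE (Nat.le_succ n)))) ∧
      ∃ cd : colimit Kc ⟶ G, (∀ n : ℕ, colimit.ι Kc n ≫ cd = π n ≫ G.ιTruncLE ((n : ℤ) + 1)) ∧
        QuasiIso cd := by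
  let S : ∀ n, Stage (P := P) G n :=
    Nat.rec (exists_stage₀ c h0 G hP).some (fun _ s => (exists_next c h0 G hP s).choose)
  let t : ∀ n, (S n).K ⟶ (S (n + 1)).K := fun n => (exists_next c h0 G hP (S n)).choose_spec.choose
  let Kc : ℕ ⥤ CochainComplex A ℤ := Functor.ofSequence t
  have hmap : ∀ n, Kc.map (homOfLE (Nat.le_succ n)) = t n := fun n => Functor.ofSequence_map_homOfLE_succ t n
  have hcomm : ∀ n, Kc.map (homOfLE (Nat.le_succ n)) ≫ (S (n + 1)).π ≫
      G.ιTruncLE (((n + 1 : ℕ) : ℤ) + 1) = (S n).π ≫ G.ιTruncLE ((n : ℤ) + 1) := fun n => by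
    rw [hmap]; exact (exists_next c h0 G hP (S n)).choose_spec.choose_spec.1
  let co : Cocone Kc :=
    { pt := G
      ι := NatTrans.ofSequence (fun n => (S n).π ≫ G.ιTruncLE ((n : ℤ) + 1))
        (fun n => (hcomm n).trans (Category.comp_id _).symm) }
  refine ⟨Kc, fun n => (S n).π, hcomm, fun n => ⟨(S n).qi, (S n).epi⟩, fun n => (S n).le,
    fun n => (S n).prop, fun n => ?_, colimit.desc Kc co, fun n => colimit.ι_desc co n, ?_⟩
  · rw [hmap]; exact (exists_next c h0 G hP (S n)).choose_spec.choose_spec.2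
  · refine quasiIso_of_eventually _ fun q => ⟨q.toNat, fun m hm => ?_⟩
    rw [colimit.ι_desc]
    show QuasiIsoAt ((S m).π ≫ G.ιTruncLE ((m : ℤ) + 1)) q
    haveI := (S m).qi
    haveI := G.quasiIsoAt_ιTruncLE ((m : ℤ) + 1) q (by lia)
    infer_instance

end Groth.Agent.CoverSys
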